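import Groth.Agent.Lefpen.H728.LaurReg
import Mathlib.Data.Fin.Parity

/-!
# The socle lemma for the Čech cohomology of a complete intersection

`k` a field, `G 0, …, G (d-1)` forms of degrees `a j ≥ 1` in the variables `ι` generating an ideal of height `≥ d`.
Everything is expressed with cochains with values in the ring of Laurent polynomials `LR ι k`:
* `dd s` : the (full, augmented) Čech differential;
* `Lsub k m I` : Laurent polynomials of degree `m` with poles along `I`;
* `Jsub G a c m I` : the elements `∑_{j < c} G j * h j`, `h j ∈ Lsub (m - a j) I`.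

* `exists_cobounding` : the cohomology of `I ↦ Lsub m I / Jsub c m I` vanishes in degrees `p` with `p + 1 + c < card ι`
  (augmented complex).
* `socle` : if `p + 1 + c = card ι`, `e < ∑_{j<c} a j - card ι`, a class in degree `p` killed by all variables vanishes.
* `socle_pow` : if `e + t ≤ ∑_{j<c} a j - card ι`, a class killed by all monomials of degree `t` vanishes.
-/

set_option autoImplicit false
set_option linter.unusedSectionVars false

universe u v

namespace Groth.Agent.Lefpen.H19.Socle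

open MvPolynomial Groth.Agent.CohqA.LaurentLoc Groth.Agent.CohqA.LaurentCech

section dd

variable {ι : Type v} {A : Type u} [AddCommGroup A]

/-- The full augmented Čech differential. -/
def dd {p : ℕ} (s : (Fin p → ι) → A) : (Fin (p + 1) → ι) → A :=
  fun σ => ∑ j : Fin (p + 1), (-1 : ℤ) ^ (j : ℕ) • s (σ ∘ j.succAbove)

theorem dd_apply {p : ℕ} (s : (Fin p → ι) → A) (σ : Fin (p + 1) → ι) :
    dd s σ = ∑ j : Fin (p + 1), (-1 : ℤ) ^ (j : ℕ) • s (σ ∘ j.succAbove) := rfl

theorem dd_add {p : ℕ} (s t : (Fin p → ι) → A) : dd (s + t) = dd s + dd t := by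
  funext σ
  simp only [dd_apply, Pi.add_apply, smul_add, Finset.sum_add_distrib]

theorem dd_sub {p : ℕ} (s t : (Fin p → ι) → A) : dd (s - t) = dd s - dd t := by
  funext σ
  simp only [dd_apply, Pi.sub_apply, smul_sub, Finset.sum_sub_distrib]

theorem dd_dd {p : ℕ} (s : (Fin p → ι) → A) : dd (dd s) = 0 := by
  funext σ
  rw [dd_apply]
  change _ = (0 : A)
  have h1 : ∀ i : Fin (p + 2), (-1 : ℤ) ^ (i : ℕ) • dd s (σ ∘ i.succAbove) =
      ∑ j : Fin (p + 1), (-1 : ℤ) ^ ((i : ℕ) + (j : ℕ)) • s ((σ ∘ i.succAbove) ∘ j.succAbove) := by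
    intro i
    rw [dd_apply, Finset.smul_sum]
    refine Finset.sum_congr rfl fun j _ => ?_
    rw [smul_smul, pow_add]
  simp only [h1]
  rw [← Finset.sum_product', Finset.univ_product_univ]
  refine Finset.sum_involution (fun p _ => (p.1.succAbove p.2, p.2.predAbove p.1)) ?_ ?_ ?_ ?_
  · rintro ⟨i, j⟩ _
    dsimp only
    rw [Fin.neg_one_pow_succAbove_add_predAbove, neg_smul]
    have h : (σ ∘ (i.succAbove j).succAbove) ∘ (j.predAbove i).succAbove =
        (σ ∘ i.succAbove) ∘ j.succAbove := by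
      funext a
      exact congrArg σ (Fin.succAbove_succAbove_succAbove_predAbove i j a)
    rw [h, add_neg_cancel]
  · rintro ⟨i, j⟩ _ _ h
    exact Fin.succAbove_ne i j (congrArg Prod.fst h)
  · intro _ _; exact Finset.mem_univ _
  · rintro ⟨i, j⟩ _
    exact Prod.ext (Fin.succAbove_succAbove_predAbove i j) (Fin.predAbove_predAbove_succAbove i j)

theorem map_dd {B : Type*} [AddCommGroup B] (f : A →+ B) {p : ℕ} (s : (Fin p → ι) → A)
    (σ : Fin (p + 1) → ι) : f (dd s σ) = dd (fun τ => f (s τ)) σ := by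
  rw [dd_apply, dd_apply, map_sum]
  exact Finset.sum_congr rfl fun j _ => map_zsmul f _ _

theorem mul_dd {L : Type*} [CommRing L] (x : L) {p : ℕ} (s : (Fin p → ι) → L)
    (σ : Fin (p + 1) → ι) : x * dd s σ = dd (fun τ => x * s τ) σ :=
  map_dd (AddMonoidHom.mulLeft x) s σ

theorem face_subset {p : ℕ} (σ : Fin (p + 1) → ι) (j : Fin (p + 1)) :
    Set.range (σ ∘ j.succAbove) ⊆ Set.range σ := Set.range_comp_subset_range _ _

end dd

variable {k : Type u} [Field k] {ι : Type v} [Fintype ι]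

/-- Laurent polynomials of degree `m` with poles along `I`, in the Laurent polynomial ring. -/
noncomputable def LS (k : Type u) [Field k] {ι : Type v} [Fintype ι] (m : ℤ) (I : Set ι) :
    Submodule k (LR ι k) :=
  (Lsub k m I).comap (AddMonoidAlgebra.coeffLinearEquiv k).toLinearMap

theorem mem_LS {m : ℤ} {I : Set ι} {x : LR ι k} : x ∈ LS k m I ↔ x.coeff ∈ Lsub k m I := Iff.rfl

theorem LS_mono {m : ℤ} {I J : Set ι} (h : I ⊆ J) : LS k m I ≤ LS k m J :=
  fun _ hx => Lsub_mono h hx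

theorem dd_mem {p : ℕ} {S : Set ι → Submodule k (LR ι k)} (hS : ∀ {I J : Set ι}, I ⊆ J → S I ≤ S J)
    {s : (Fin p → ι) → LR ι k} (hs : ∀ σ, s σ ∈ S (Set.range σ)) (σ : Fin (p + 1) → ι) :
    dd s σ ∈ S (Set.range σ) :=
  Submodule.sum_mem _ fun j _ => (S (Set.range σ)).toAddSubgroup.zsmul_mem
    (hS (face_subset σ j) (hs _)) _

theorem dd_mem_LS {p : ℕ} {m : ℤ} {s : (Fin p → ι) → LR ι k} (hs : ∀ σ, s σ ∈ LS k m (Set.range σ))
    (σ : Fin (p + 1) → ι) : dd s σ ∈ LS k m (Set.range σ) :=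
  dd_mem (S := LS k m) (fun h => LS_mono h) hs σ

theorem mul_mem_LS {F : MvPolynomial ι k} {a : ℕ} (hF : F.IsHomogeneous a) {m : ℤ} {I : Set ι}
    {x : LR ι k} (hx : x ∈ LS k m I) {m' : ℤ} (hm : m' = m + a) :
    toLaurent F * x ∈ LS k m' I :=
  H728.LaurReg.mul_mem_Lsub hF hx hm

/-- Exactness in the ambient system. -/
theorem exists_cobounding₀ {p : ℕ} {m : ℤ} (s : (Fin (p + 1) → ι) → LR ι k)
    (hs : ∀ σ, s σ ∈ LS k m (Set.range σ)) (hcoc : dd s = 0) (hp : p + 1 < Fintype.card ι) :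
    ∃ t : (Fin p → ι) → LR ι k, (∀ σ, t σ ∈ LS k m (Set.range σ)) ∧ dd t = s := by
  obtain ⟨t, ht, hts⟩ := Groth.Agent.CohqA.LaurentCech.exists_cobounding (fun σ => (s σ).coeff) hs (fun σ => by
    have h1 := map_dd (AddMonoidAlgebra.coeffAddEquiv (R := k) (M := ι → ℤ)).toAddMonoidHom s σ
    rw [hcoc] at h1
    exact h1.symm.trans (by simp)) (Or.inr hp)
  refine ⟨fun σ => AddMonoidAlgebra.ofCoeff (t σ), ht, ?_⟩
  funext σ
  apply AddMonoidAlgebra.coeff_injective
  rw [← hts σ]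
  exact map_dd (AddMonoidAlgebra.coeffAddEquiv (R := k) (M := ι → ℤ)).toAddMonoidHom
    (fun σ => AddMonoidAlgebra.ofCoeff (t σ)) σ


theorem coeff_X_mul (i : ι) [DecidableEq ι] (x : LR ι k) (m : ι → ℤ) :
    (toLaurent (X i) * x).coeff (m + Pi.single i 1) = x.coeff m := by
  have h1 : (toLaurent (X i) : LR ι k) = AddMonoidAlgebra.single (Pi.single i 1) 1 := by
    rw [X, toLaurent_monomial]
    congr 1
    funext j
    rw [castExp_apply, Finsupp.single_apply, Pi.single_apply]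
    by_cases h : i = j
    · subst h; simp
    · rw [if_neg h, if_neg (Ne.symm h)]; rfl
  rw [h1, mul_comm, coeff_mul_single_one, add_sub_cancel_right]

/-- The socle lemma on projective space. -/
theorem socle₀ {p : ℕ} (hp : p + 1 = Fintype.card ι) {e : ℤ} (he : e < -(Fintype.card ι : ℤ))
    (z : (Fin (p + 1) → ι) → LR ι k) (hz : ∀ σ, z σ ∈ LS k e (Set.range σ)) (hcoc : dd z = 0)
    (y : ι → (Fin p → ι) → LR ι k) (hy : ∀ i σ, y i σ ∈ LS k (e + 1) (Set.range σ))
    (hyz : ∀ i σ, dd (y i) σ = toLaurent (X i) * z σ) :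
    ∃ t : (Fin p → ι) → LR ι k, (∀ σ, t σ ∈ LS k e (Set.range σ)) ∧ dd t = z := by
  classical
  have hne : Nonempty ι := Fintype.card_pos_iff.1 (by omega)
  let i₀ : (ι → ℤ) → ι := fun m => if h : ∃ i, m i ≤ -2 then h.choose else Classical.choice hne
  let P : ι → (ι → ℤ) → Prop := fun i m => (¬ ∃ l, 0 ≤ m l) ∧ i₀ m = i
  let t : (Fin p → ι) → LR ι k := fun τ => AddMonoidAlgebra.ofCoeff
    (homotopy (fun σ => (z σ).coeff) τ +
      ∑ i, Finsupp.filter (P i) (y i τ * AddMonoidAlgebra.single (-(Pi.single i 1 : ι → ℤ)) 1).coeff)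
  have key : ∀ τ m, (t τ).coeff m = if h : ∃ l, 0 ≤ m l then (z (Fin.cons h.choose τ)).coeff m
      else (y (i₀ m) τ).coeff (m + Pi.single (i₀ m) 1) := by
    intro τ m
    change (homotopy (fun σ => (z σ).coeff) τ +
      ∑ i, Finsupp.filter (P i) (y i τ * AddMonoidAlgebra.single (-(Pi.single i 1 : ι → ℤ)) 1).coeff) m = _
    rw [Finsupp.add_apply, Finsupp.finsetSum_apply, homotopy_apply]
    by_cases h : ∃ l, 0 ≤ m l
    · rw [dif_pos h, dif_pos h]
      rw [Finset.sum_eq_zero, add_zero]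
      intro i _
      rw [Finsupp.filter_apply, if_neg (fun h' => h'.1 h)]
    · rw [dif_neg h, dif_neg h, zero_add, Finset.sum_eq_single (i₀ m)]
      · rw [Finsupp.filter_apply, if_pos ⟨h, rfl⟩, coeff_mul_single_one, sub_neg_eq_add]
      · intro i _ hi
        rw [Finsupp.filter_apply, if_neg (fun h' => hi h'.2.symm)]
      · intro h'; exact absurd (Finset.mem_univ _) h'
  refine ⟨t, fun τ m hm => ?_, ?_⟩
  · rw [AddMonoidAlgebra.coeffLinearEquiv] at hm
    have hm' : (t τ).coeff m ≠ 0 := hm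
    rw [key] at hm'
    by_cases h : ∃ l, 0 ≤ m l
    · rw [dif_pos h] at hm'
      have h1 := hz _ m hm'
      refine ⟨h1.1, fun l hl => ?_⟩
      by_cases hlk : l = h.choose
      · rw [hlk]; exact h.choose_spec
      · refine h1.2 l ?_
        rintro ⟨a, ha⟩
        revert ha
        refine Fin.cases ?_ (fun b => ?_) a
        · intro ha
          simp only [Fin.cons_zero] at ha
          exact hlk ha.symm
        · intro ha
          simp only [Fin.cons_succ] at ha
          exact hl ⟨b, ha⟩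
    · rw [dif_neg h] at hm'
      have h1 := hy _ _ _ hm'
      have hsum : ∑ i, m i = e := by
        have h2 := h1.1
        simp only [Pi.add_apply, Finset.sum_add_distrib, Finset.sum_pi_single', Finset.mem_univ,
          if_true] at h2
        omega
      have hex : ∃ i, m i ≤ -2 := by
        by_contra hcon
        push Not at hcon
        have h2 : ∑ _i : ι, (-1 : ℤ) ≤ ∑ i, m i := Finset.sum_le_sum fun i _ => by
          have := hcon i; omega
        rw [hsum] at h2
        simp at h2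
        omega
      refine ⟨hsum, fun l hl => ?_⟩
      exfalso
      have h2 := h1.2 l hl
      have h3 : i₀ m = hex.choose := dif_pos hex
      have h4 : m (i₀ m) ≤ -2 := by rw [h3]; exact hex.choose_spec
      push Not at h
      have h5 := h l
      rw [Pi.add_apply, Pi.single_apply] at h2
      split_ifs at h2 with h6
      · subst h6; omega
      · omega
  · funext σ
    apply AddMonoidAlgebra.coeff_injective
    ext m
    have hev : ∀ {q : ℕ} (s : (Fin q → ι) → LR ι k) (σ : Fin (q + 1) → ι) (m : ι → ℤ),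
        (dd s σ).coeff m = dd (fun τ => (s τ).coeff m) σ := fun s σ m =>
      map_dd ((Finsupp.applyAddHom m).comp
        (AddMonoidAlgebra.coeffAddEquiv (R := k) (M := ι → ℤ)).toAddMonoidHom) s σ
    rw [hev]
    by_cases h : ∃ l, 0 ≤ m l
    · have h1 : (dd z (Fin.cons h.choose σ)).coeff m = 0 := by rw [hcoc]; rfl
      rw [hev, dd_apply, Fin.sum_univ_succ] at h1
      simp only [cons_comp_zero_succAbove, Fin.val_zero, pow_zero, one_smul, Fin.val_succ,
        pow_succ', neg_mul, one_mul, neg_smul, Finset.sum_neg_distrib, cons_comp_succ_succAbove] at h1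
      rw [← sub_eq_add_neg, sub_eq_zero] at h1
      rw [h1, dd_apply]
      refine Finset.sum_congr rfl fun j _ => ?_
      rw [key, dif_pos h]
    · have h1 : (fun τ => (t τ).coeff m) = fun τ => (y (i₀ m) τ).coeff (m + Pi.single (i₀ m) 1) := by
        funext τ
        rw [key, dif_neg h]
      rw [h1, ← hev, hyz, coeff_X_mul]

/-! ### The submodules `Jsub` -/

section J

variable {d : ℕ} (G : Fin d → MvPolynomial ι k) (a : Fin d → ℕ)

/-- The elements `∑_{j<c} G j * h j` with `h j` of degree `m - a j` and poles along `I`. -/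
noncomputable def Jsub (c : ℕ) (m : ℤ) (I : Set ι) : Submodule k (LR ι k) where
  carrier := {x | ∃ h : Fin d → LR ι k, (∀ j, h j ∈ LS k (m - a j) I) ∧
    x = ∑ j ∈ Finset.univ.filter (fun j : Fin d => j.1 < c), toLaurent (G j) * h j}
  zero_mem' := ⟨0, fun _ => Submodule.zero_mem _, by simp⟩
  add_mem' := by
    rintro _ _ ⟨h, hh, rfl⟩ ⟨h', hh', rfl⟩
    exact ⟨h + h', fun j => Submodule.add_mem _ (hh j) (hh' j), by
      simp only [Pi.add_apply, mul_add, Finset.sum_add_distrib]⟩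
  smul_mem' := by
    rintro r _ ⟨h, hh, rfl⟩
    exact ⟨r • h, fun j => Submodule.smul_mem _ r (hh j), by
      simp only [Pi.smul_apply, mul_smul_comm, Finset.smul_sum]⟩

theorem Jsub_mono {c : ℕ} {m : ℤ} {I J : Set ι} (h : I ⊆ J) : Jsub G a c m I ≤ Jsub G a c m J := by
  rintro _ ⟨u, hu, rfl⟩
  exact ⟨u, fun j => LS_mono h (hu j), rfl⟩

theorem Jsub_zero {m : ℤ} {I : Set ι} {x : LR ι k} : x ∈ Jsub G a 0 m I ↔ x = 0 := by
  constructor
  · rintro ⟨u, _, rfl⟩; simp
  · rintro rfl; exact Submodule.zero_mem _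

theorem mem_Jsub_succ {c : ℕ} (hc : c < d) {m : ℤ} {I : Set ι} {x : LR ι k} :
    x ∈ Jsub G a (c + 1) m I ↔
      ∃ u ∈ LS k (m - a ⟨c, hc⟩) I, x - toLaurent (G ⟨c, hc⟩) * u ∈ Jsub G a c m I := by
  classical
  have hf : Finset.univ.filter (fun j : Fin d => j.1 < c + 1) =
      insert ⟨c, hc⟩ (Finset.univ.filter (fun j : Fin d => j.1 < c)) := by
    ext j
    simp only [Finset.mem_filter, Finset.mem_univ, true_and, Finset.mem_insert, Fin.ext_iff]
    omega
  have hnot : (⟨c, hc⟩ : Fin d) ∉ Finset.univ.filter (fun j : Fin d => j.1 < c) := by simp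
  constructor
  · rintro ⟨h, hh, rfl⟩
    refine ⟨h ⟨c, hc⟩, hh _, h, hh, ?_⟩
    rw [hf, Finset.sum_insert hnot, add_sub_cancel_left]
  · rintro ⟨u, hu, h, hh, hx⟩
    refine ⟨Function.update h ⟨c, hc⟩ u, fun j => ?_, ?_⟩
    · by_cases hj : j = ⟨c, hc⟩
      · subst hj; rw [Function.update_self]; exact hu
      · rw [Function.update_of_ne hj]; exact hh j
    · rw [hf, Finset.sum_insert hnot, Function.update_self]
      rw [Finset.sum_congr rfl (g := fun j => toLaurent (G j) * h j)]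
      · rw [← hx]; ring
      · intro j hj
        rw [Function.update_of_ne]
        rintro rfl
        exact hnot hj

theorem Jsub_le_succ {c : ℕ} (hc : c < d) {m : ℤ} {I : Set ι} :
    Jsub G a c m I ≤ Jsub G a (c + 1) m I := fun x hx =>
  (mem_Jsub_succ G a hc).2 ⟨0, Submodule.zero_mem _, by rwa [mul_zero, sub_zero]⟩

theorem mul_mem_Jsub_succ {c : ℕ} (hc : c < d) {m : ℤ} {I : Set ι} {u : LR ι k}
    (hu : u ∈ LS k (m - a ⟨c, hc⟩) I) : toLaurent (G ⟨c, hc⟩) * u ∈ Jsub G a (c + 1) m I :=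
  (mem_Jsub_succ G a hc).2 ⟨u, hu, by rw [sub_self]; exact Submodule.zero_mem _⟩

/-- Multiplication by a form. -/
theorem mul_mem_Jsub {F : MvPolynomial ι k} {b : ℕ} (hF : F.IsHomogeneous b) {c : ℕ} {m m' : ℤ}
    (hm : m' = m + b) {I : Set ι} {x : LR ι k} (hx : x ∈ Jsub G a c m I) :
    toLaurent F * x ∈ Jsub G a c m' I := by
  obtain ⟨h, hh, rfl⟩ := hx
  refine ⟨fun j => toLaurent F * h j, fun j => mul_mem_LS hF (hh j) (by rw [hm]; ring), ?_⟩
  rw [Finset.mul_sum]
  exact Finset.sum_congr rfl fun j _ => by ring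

variable {G a}

/-- Regularity. -/
theorem mem_Jsub_of_mul (ha : ∀ j, 1 ≤ a j) (hG : ∀ j, (G j).IsHomogeneous (a j))
    (hht : (d : ℕ∞) ≤ (Ideal.span (Set.range G)).height) {c : ℕ} (hc : c < d) {m m' : ℤ}
    (hm : m' = m + a ⟨c, hc⟩) {I : Set ι} {f : LR ι k} (hf : f ∈ LS k m I)
    (h : toLaurent (G ⟨c, hc⟩) * f ∈ Jsub G a c m' I) : f ∈ Jsub G a c m I := by
  subst hm
  obtain ⟨u, hu, hue⟩ := h
  obtain ⟨h', hh', hf'⟩ := H728.LaurReg.exists_coeff_of_mul G a ha hG hht ⟨c, hc⟩ f hf u hu hue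
  exact ⟨h', hh', hf'⟩

/-- Exactness of the Čech complexes in low degrees. -/
theorem exists_cobounding (ha : ∀ j, 1 ≤ a j) (hG : ∀ j, (G j).IsHomogeneous (a j))
    (hht : (d : ℕ∞) ≤ (Ideal.span (Set.range G)).height) (c : ℕ) (hc : c ≤ d) :
    ∀ {p : ℕ} {m : ℤ} (s : (Fin (p + 1) → ι) → LR ι k) (_ : ∀ σ, s σ ∈ LS k m (Set.range σ))
    (_ : ∀ σ, dd s σ ∈ Jsub G a c m (Set.range σ)) (_ : p + 1 + c < Fintype.card ι),
    ∃ t : (Fin p → ι) → LR ι k, (∀ σ, t σ ∈ LS k m (Set.range σ)) ∧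
      ∀ σ, s σ - dd t σ ∈ Jsub G a c m (Set.range σ) := by
  induction c with
  | zero =>
    intro p m s hs hcoc hp
    obtain ⟨t, ht, hts⟩ := exists_cobounding₀ s hs (funext fun σ => (Jsub_zero G a).1 (hcoc σ))
      (by omega)
    exact ⟨t, ht, fun σ => by rw [hts, sub_self]; exact Submodule.zero_mem _⟩
  | succ c ih =>
    intro p m s hs hcoc hp
    have hc' : c < d := hc
    choose h hh hh' using fun σ => (mem_Jsub_succ G a hc').1 (hcoc σ)
    have h1 : ∀ σ, dd h σ ∈ Jsub G a c (m - a ⟨c, hc'⟩) (Set.range σ) := by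
      intro σ
      refine mem_Jsub_of_mul ha hG hht hc' (m' := m) (by ring) (dd_mem_LS hh σ) ?_
      rw [mul_dd]
      have h2 := dd_mem (S := Jsub G a c m) (fun h => Jsub_mono G a h) hh' σ
      have h3 : dd (fun σ => dd s σ - toLaurent (G ⟨c, hc'⟩) * h σ) σ =
          - dd (fun τ => toLaurent (G ⟨c, hc'⟩) * h τ) σ := by
        have := congrFun (dd_sub (dd s) (fun τ => toLaurent (G ⟨c, hc'⟩) * h τ)) σ
        rw [dd_dd] at this
        rw [Pi.sub_apply, Pi.zero_apply, zero_sub] at this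
        exact this
      rw [h3] at h2
      exact (Submodule.neg_mem_iff _).1 h2
    obtain ⟨y, hy, hhy⟩ := ih hc'.le h hh h1 (by omega)
    have h4 : ∀ σ, s σ - toLaurent (G ⟨c, hc'⟩) * y σ ∈ LS k m (Set.range σ) := fun σ =>
      Submodule.sub_mem _ (hs σ) (mul_mem_LS (hG _) (hy σ) (by ring))
    have h5 : ∀ σ, dd (fun σ => s σ - toLaurent (G ⟨c, hc'⟩) * y σ) σ ∈
        Jsub G a c m (Set.range σ) := by
      intro σ
      have h6 : dd (fun σ => s σ - toLaurent (G ⟨c, hc'⟩) * y σ) σ =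
          (dd s σ - toLaurent (G ⟨c, hc'⟩) * h σ) + toLaurent (G ⟨c, hc'⟩) * (h σ - dd y σ) := by
        have := congrFun (dd_sub s (fun τ => toLaurent (G ⟨c, hc'⟩) * y τ)) σ
        rw [Pi.sub_apply, ← mul_dd] at this
        refine this.trans ?_
        ring
      rw [h6]
      exact Submodule.add_mem _ (hh' σ) (mul_mem_Jsub G a (hG _) (by ring) (hhy σ))
    obtain ⟨t, ht, hst⟩ := ih hc'.le _ h4 h5 (by omega)
    refine ⟨t, ht, fun σ => (mem_Jsub_succ G a hc').2 ⟨y σ, LS_mono ?_ (hy σ), ?_⟩⟩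
    · exact le_rfl
    · convert hst σ using 1
      ring


/-- The sum of the first `c` degrees. -/
def asum (a : Fin d → ℕ) (c : ℕ) : ℤ := ∑ j ∈ Finset.univ.filter (fun j : Fin d => j.1 < c), (a j : ℤ)

theorem asum_succ (a : Fin d → ℕ) {c : ℕ} (hc : c < d) : asum a (c + 1) = asum a c + a ⟨c, hc⟩ := by
  classical
  have hf : Finset.univ.filter (fun j : Fin d => j.1 < c + 1) =
      insert ⟨c, hc⟩ (Finset.univ.filter (fun j : Fin d => j.1 < c)) := by
    ext j
    simp only [Finset.mem_filter, Finset.mem_univ, true_and, Finset.mem_insert, Fin.ext_iff]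
    omega
  rw [asum, asum, hf, Finset.sum_insert (by simp), add_comm]

theorem asum_self (a : Fin d → ℕ) : asum a d = ∑ j, (a j : ℤ) := by
  rw [asum, Finset.filter_true_of_mem fun j _ => j.2]

/-- The socle lemma: a class in the top degree `p = card ι - 1 - c` of degree `e < ∑_{j<c} a j - card ι` killed by all
the variables vanishes. -/
theorem socle (ha : ∀ j, 1 ≤ a j) (hG : ∀ j, (G j).IsHomogeneous (a j))
    (hht : (d : ℕ∞) ≤ (Ideal.span (Set.range G)).height) (c : ℕ) (hc : c ≤ d) :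
    ∀ {p : ℕ} {e : ℤ} (z : (Fin (p + 1) → ι) → LR ι k) (_ : ∀ σ, z σ ∈ LS k e (Set.range σ))
    (_ : ∀ σ, dd z σ ∈ Jsub G a c e (Set.range σ)) (_ : p + 1 + c = Fintype.card ι)
    (_ : e < asum a c - Fintype.card ι)
    (_ : ∀ i : ι, ∃ y : (Fin p → ι) → LR ι k, (∀ σ, y σ ∈ LS k (e + 1) (Set.range σ)) ∧
      ∀ σ, toLaurent (X i) * z σ - dd y σ ∈ Jsub G a c (e + 1) (Set.range σ)),
    ∃ t : (Fin p → ι) → LR ι k, (∀ σ, t σ ∈ LS k e (Set.range σ)) ∧
      ∀ σ, z σ - dd t σ ∈ Jsub G a c e (Set.range σ) := by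
  induction c with
  | zero =>
    intro p e z hz hcoc hp he hsoc
    choose y hy hyz using hsoc
    have h0 : asum a 0 = 0 := by simp [asum]
    obtain ⟨t, ht, htz⟩ := socle₀ (by omega) (by omega) z hz
      (funext fun σ => (Jsub_zero G a).1 (hcoc σ)) y hy (fun i σ =>
        (sub_eq_zero.1 ((Jsub_zero G a).1 (hyz i σ))).symm)
    exact ⟨t, ht, fun σ => by rw [htz, sub_self]; exact Submodule.zero_mem _⟩
  | succ c ih =>
    intro p e z hz hcoc hp he hsoc
    have hc' : c < d := hc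
    choose h hh hh' using fun σ => (mem_Jsub_succ G a hc').1 (hcoc σ)
    have h1 : ∀ σ, dd h σ ∈ Jsub G a c (e - a ⟨c, hc'⟩) (Set.range σ) := by
      intro σ
      refine mem_Jsub_of_mul ha hG hht hc' (m' := e) (by ring) (dd_mem_LS hh σ) ?_
      rw [mul_dd]
      have h2 := dd_mem (S := Jsub G a c e) (fun h => Jsub_mono G a h) hh' σ
      have h3 : dd (fun σ => dd z σ - toLaurent (G ⟨c, hc'⟩) * h σ) σ =
          - dd (fun τ => toLaurent (G ⟨c, hc'⟩) * h τ) σ := by
        have := congrFun (dd_sub (dd z) (fun τ => toLaurent (G ⟨c, hc'⟩) * h τ)) σ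
        rw [dd_dd] at this
        rw [Pi.sub_apply, Pi.zero_apply, zero_sub] at this
        exact this
      rw [h3] at h2
      exact (Submodule.neg_mem_iff _).1 h2
    have hsoc' : ∀ i : ι, ∃ u : (Fin (p + 1) → ι) → LR ι k,
        (∀ σ, u σ ∈ LS k (e - a ⟨c, hc'⟩ + 1) (Set.range σ)) ∧
        ∀ σ, toLaurent (X i) * h σ - dd u σ ∈ Jsub G a c (e - a ⟨c, hc'⟩ + 1) (Set.range σ) := by
      intro i
      obtain ⟨y, hy, hyz⟩ := hsoc i
      choose u hu hu' using fun σ => (mem_Jsub_succ G a hc').1 (hyz σ)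
      have he' : e + 1 - a ⟨c, hc'⟩ = e - a ⟨c, hc'⟩ + 1 := by ring
      rw [he'] at hu
      refine ⟨u, hu, fun σ => ?_⟩
      refine mem_Jsub_of_mul ha hG hht hc' (m' := e + 1) (by ring)
        (Submodule.sub_mem _ (mul_mem_LS (isHomogeneous_X k i) (hh σ) (by push_cast; ring))
          (dd_mem_LS hu σ)) ?_
      have h2 := dd_mem (S := Jsub G a c (e + 1)) (fun h => Jsub_mono G a h) hu' σ
      have h3 : dd (fun σ => toLaurent (X i) * z σ - dd y σ - toLaurent (G ⟨c, hc'⟩) * u σ) σ =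
          toLaurent (X i) * dd z σ - toLaurent (G ⟨c, hc'⟩) * dd u σ := by
        have h4 := congrFun (dd_sub (fun σ => toLaurent (X i) * z σ - dd y σ)
          (fun τ => toLaurent (G ⟨c, hc'⟩) * u τ)) σ
        have h5 := congrFun (dd_sub (fun σ => toLaurent (X i) * z σ) (dd y)) σ
        rw [dd_dd, Pi.sub_apply, Pi.zero_apply, sub_zero, ← mul_dd] at h5
        rw [Pi.sub_apply, ← mul_dd] at h4
        refine h4.trans ?_
        rw [← h5]
        rfl
      rw [h3] at h2
      have h6 : toLaurent (G ⟨c, hc'⟩) * (toLaurent (X i) * h σ - dd u σ) =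
          (toLaurent (X i) * dd z σ - toLaurent (G ⟨c, hc'⟩) * dd u σ) -
            toLaurent (X i) * (dd z σ - toLaurent (G ⟨c, hc'⟩) * h σ) := by ring
      rw [h6]
      exact Submodule.sub_mem _ h2 (mul_mem_Jsub G a (isHomogeneous_X k i) (by push_cast; ring) (hh' σ))
    have he2 := asum_succ a hc'
    obtain ⟨y, hy, hhy⟩ := ih hc'.le h hh h1 (by omega) (by omega) hsoc'
    have h4 : ∀ σ, z σ - toLaurent (G ⟨c, hc'⟩) * y σ ∈ LS k e (Set.range σ) := fun σ =>
      Submodule.sub_mem _ (hz σ) (mul_mem_LS (hG _) (hy σ) (by ring))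
    have h5 : ∀ σ, dd (fun σ => z σ - toLaurent (G ⟨c, hc'⟩) * y σ) σ ∈
        Jsub G a c e (Set.range σ) := by
      intro σ
      have h6 : dd (fun σ => z σ - toLaurent (G ⟨c, hc'⟩) * y σ) σ =
          (dd z σ - toLaurent (G ⟨c, hc'⟩) * h σ) + toLaurent (G ⟨c, hc'⟩) * (h σ - dd y σ) := by
        have := congrFun (dd_sub z (fun τ => toLaurent (G ⟨c, hc'⟩) * y τ)) σ
        rw [Pi.sub_apply, ← mul_dd] at this
        refine this.trans ?_
        ring
      rw [h6]
      exact Submodule.add_mem _ (hh' σ) (mul_mem_Jsub G a (hG _) (by ring) (hhy σ))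
    obtain ⟨t, ht, hst⟩ := exists_cobounding ha hG hht c hc'.le _ h4 h5 (by omega)
    refine ⟨t, ht, fun σ => (mem_Jsub_succ G a hc').2 ⟨y σ, hy σ, ?_⟩⟩
    convert hst σ using 1
    ring

/-- The iterated socle lemma: a class in the top degree of degree `e`, `e + t ≤ ∑_{j<c} a j - card ι`, killed by all
the monomials of degree `t` vanishes. -/
theorem socle_pow (ha : ∀ j, 1 ≤ a j) (hG : ∀ j, (G j).IsHomogeneous (a j))
    (hht : (d : ℕ∞) ≤ (Ideal.span (Set.range G)).height) (c : ℕ) (hc : c ≤ d) {p : ℕ}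
    (hp : p + 1 + c = Fintype.card ι) (t : ℕ) :
    ∀ {e : ℤ} (z : (Fin (p + 1) → ι) → LR ι k) (_ : ∀ σ, z σ ∈ LS k e (Set.range σ))
    (_ : ∀ σ, dd z σ ∈ Jsub G a c e (Set.range σ))
    (_ : e + t ≤ asum a c - Fintype.card ι)
    (_ : ∀ u : ι →₀ ℕ, u.degree = t → ∃ y : (Fin p → ι) → LR ι k,
      (∀ σ, y σ ∈ LS k (e + t) (Set.range σ)) ∧
      ∀ σ, toLaurent (monomial u 1) * z σ - dd y σ ∈ Jsub G a c (e + t) (Set.range σ)),
    ∃ y : (Fin p → ι) → LR ι k, (∀ σ, y σ ∈ LS k e (Set.range σ)) ∧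
      ∀ σ, z σ - dd y σ ∈ Jsub G a c e (Set.range σ) := by
  induction t with
  | zero =>
    intro e z hz hcoc he hsoc
    obtain ⟨y, hy, hyz⟩ := hsoc 0 (map_zero _)
    simp only [Nat.cast_zero, add_zero] at hy hyz
    have h1 : (toLaurent (monomial (0 : ι →₀ ℕ) (1 : k)) : LR ι k) = 1 := by
      rw [show (monomial (0 : ι →₀ ℕ) (1 : k) : MvPolynomial ι k) = 1 from rfl, map_one]
    simp only [h1, one_mul] at hyz
    exact ⟨y, hy, hyz⟩
  | succ t ih =>
    intro e z hz hcoc he hsoc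
    refine socle ha hG hht c hc z hz hcoc hp (by push_cast at he; omega) fun i => ?_
    refine ih (e := e + 1) (fun σ => toLaurent (X i) * z σ)
      (fun σ => mul_mem_LS (isHomogeneous_X k i) (hz σ) (by push_cast; ring)) (fun σ => ?_)
      (by push_cast at he; omega) fun u hu => ?_
    · rw [← mul_dd]
      exact mul_mem_Jsub G a (isHomogeneous_X k i) (by push_cast; ring) (hcoc σ)
    · obtain ⟨y, hy, hyz⟩ := hsoc (u + Finsupp.single i 1) (by
        rw [map_add, hu, Finsupp.degree_single])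
      have he' : e + ((t + 1 : ℕ) : ℤ) = e + 1 + t := by push_cast; ring
      rw [he'] at hy hyz
      refine ⟨y, hy, fun σ => ?_⟩
      have h1 : (toLaurent (monomial u (1 : k)) * (toLaurent (X i) * z σ) : LR ι k) =
          toLaurent (monomial (u + Finsupp.single i 1) 1) * z σ := by
        rw [← mul_assoc, ← map_mul, X, monomial_mul, one_mul]
      rw [h1]
      exact hyz σ

end J

end Groth.Agent.Lefpen.H19.Socle
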